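import Mathlib.CategoryTheory.Abelian.Basic
import Mathlib.CategoryTheory.Filtered.Basic
import Mathlib.CategoryTheory.Generator.Basic
import Mathlib.Order.Category.Preord
import Mathlib.Data.Finset.Card

/-!
# Every object is a filtered colimit of finitely presented ones, for small generators
-/

set_option linter.style.haveILetI false
set_option backward.isDefEq.respectTransparency false

universe u v w

open CategoryTheory CategoryTheory.Limits

namespace Groth.Agent.FPColim

variable {A : Type v} [Category.{u} A] [Abelian A] [HasColimitsOfSize.{u, u} A] {I₀ I₁ : Type u}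
  (P₀ : I₀ → A) (P₁ : I₁ → A) (r : ∀ k, P₁ k ⟶ ∐ P₀)

open scoped Classical in
/-- The projection of a coproduct to a component. -/
noncomputable def proj (i : I₀) : (∐ P₀) ⟶ P₀ i :=
  Sigma.desc fun j => if h : j = i then eqToHom (congrArg P₀ h) else 0

/-- The finite partial coproduct. -/
noncomputable abbrev part (s : Finset I₀) : A := ∐ fun i : s => P₀ i.1

/-- Its inclusion. -/
noncomputable abbrev incl (s : Finset I₀) : part P₀ s ⟶ ∐ P₀ := Sigma.desc fun i : s => Sigma.ι P₀ i.1

/-- A retraction of the inclusion. -/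
noncomputable def retr (s : Finset I₀) : (∐ P₀) ⟶ part P₀ s :=
  ∑ i : s, proj P₀ i.1 ≫ Sigma.ι (fun i : s => P₀ i.1) i

lemma ι_proj (i : I₀) : Sigma.ι P₀ i ≫ proj P₀ i = 𝟙 _ := by simp [proj]

lemma ι_proj_ne {i j : I₀} (h : j ≠ i) : Sigma.ι P₀ j ≫ proj P₀ i = 0 := by simp [proj, h]

lemma incl_retr (s : Finset I₀) : incl P₀ s ≫ retr P₀ s = 𝟙 _ := by
  refine Sigma.hom_ext _ _ fun i => ?_
  rw [Sigma.ι_desc_assoc, Category.comp_id, retr, Preadditive.comp_sum,
    Finset.sum_eq_single i (fun j _ hj => by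
      rw [← Category.assoc, ι_proj_ne P₀ (fun e => hj (Subtype.ext e.symm)), zero_comp])
      (fun h => (h (Finset.mem_univ i)).elim), ← Category.assoc, ι_proj, Category.id_comp]

instance mono_incl (s : Finset I₀) : Mono (incl P₀ s) :=
  (SplitMono.mk (retr P₀ s) (incl_retr P₀ s)).mono

variable (supp : I₁ → Finset I₀) (hsupp : ∀ k, r k = ∑ i ∈ supp k, r k ≫ proj P₀ i ≫ Sigma.ι P₀ i)

/-- The finite presentations inside a given one. -/
abbrev Idx : Type u := {p : Finset I₀ × Finset I₁ // ∀ k ∈ p.2, supp k ⊆ p.1}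

instance : Nonempty (Idx supp) := ⟨⟨(∅, ∅), fun k h => absurd h (Finset.notMem_empty k)⟩⟩

instance : IsDirectedOrder (Idx supp) where
  directed p q := by
    classical
    exact ⟨⟨(p.1.1 ∪ q.1.1, p.1.2 ∪ q.1.2), fun k hk => (Finset.mem_union.1 hk).elim
      (fun h => (p.2 k h).trans Finset.subset_union_left) (fun h => (q.2 k h).trans Finset.subset_union_right)⟩,
      ⟨Finset.subset_union_left, Finset.subset_union_left⟩, ⟨Finset.subset_union_right, Finset.subset_union_right⟩⟩

/-- The relations of a finite piece. -/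
noncomputable def rel (l : Idx supp) : (∐ fun k : l.1.2 => P₁ k.1) ⟶ part P₀ l.1.1 :=
  Sigma.desc fun k => r k.1 ≫ retr P₀ l.1.1

include hsupp in
lemma retr_incl {s : Finset I₀} {k : I₁} (h : supp k ⊆ s) : r k ≫ retr P₀ s ≫ incl P₀ s = r k := by
  classical
  rw [retr, Preadditive.sum_comp, Preadditive.comp_sum]
  conv_rhs => rw [hsupp k]
  simp only [Category.assoc, colimit.ι_desc, Cofan.mk_pt, Cofan.mk_ι_app]
  rw [Finset.sum_coe_sort s (fun i => r k ≫ proj P₀ i ≫ Sigma.ι P₀ i)]
  refine (Finset.sum_subset h fun i _ hi => ?_).symm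
  have h0 : r k ≫ proj P₀ i = 0 := by
    rw [hsupp k, Preadditive.sum_comp]
    refine Finset.sum_eq_zero fun j hj => ?_
    rw [Category.assoc, Category.assoc, ι_proj_ne P₀ (by rintro rfl; exact hi hj), comp_zero, comp_zero]
  rw [← Category.assoc, h0, zero_comp]

include hsupp in
lemma rel_incl (l : Idx supp) : rel P₀ P₁ r supp l ≫ incl P₀ l.1.1 =
    Sigma.desc fun k : l.1.2 => r k.1 := by
  refine Sigma.hom_ext _ _ fun k => ?_
  rw [rel, Sigma.ι_desc_assoc, Sigma.ι_desc, Category.assoc, retr_incl P₀ P₁ r supp hsupp (l.2 k.1 k.2)]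

/-- A transition of partial coproducts. -/
noncomputable abbrev step {s s' : Finset I₀} (h : s ⊆ s') : part P₀ s ⟶ part P₀ s' :=
  Sigma.desc fun i => Sigma.ι (fun i : s' => P₀ i.1) ⟨i.1, h i.2⟩

/-- A transition of relations. -/
noncomputable abbrev stepRel {t t' : Finset I₁} (h : t ⊆ t') :
    (∐ fun k : t => P₁ k.1) ⟶ ∐ fun k : t' => P₁ k.1 :=
  Sigma.desc fun k => Sigma.ι (fun k : t' => P₁ k.1) ⟨k.1, h k.2⟩

lemma step_incl {s s' : Finset I₀} (h : s ⊆ s') : step P₀ h ≫ incl P₀ s' = incl P₀ s :=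
  Sigma.hom_ext _ _ fun i => by simp

include hsupp in
lemma rel_step {l l' : Idx supp} (h : l ≤ l') :
    rel P₀ P₁ r supp l ≫ step P₀ h.1 = stepRel P₁ h.2 ≫ rel P₀ P₁ r supp l' := by
  rw [← cancel_mono (incl P₀ l'.1.1), Category.assoc, Category.assoc, step_incl, rel_incl P₀ P₁ r supp hsupp,
    rel_incl P₀ P₁ r supp hsupp]
  exact Sigma.hom_ext _ _ fun k => by simp

/-- The diagram of finite pieces. -/
noncomputable def diagram : Idx supp ⥤ A where
  obj l := cokernel (rel P₀ P₁ r supp l)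
  map {l l'} h := cokernel.map _ _ (stepRel P₁ (leOfHom h).2) (step P₀ (leOfHom h).1)
    (rel_step P₀ P₁ r supp hsupp (leOfHom h))
  map_id l := coequalizer.hom_ext (by
    refine (cokernel.π_desc _ _ _).trans ?_
    erw [Category.comp_id, show step P₀ (Finset.Subset.refl l.1.1) = 𝟙 _ from Sigma.hom_ext _ _ fun i => by simp]
    exact Category.id_comp _)
  map_comp {l l' l''} h h' := coequalizer.hom_ext (by
    refine (cokernel.π_desc _ _ _).trans (Eq.symm ?_)
    refine (cokernel.π_desc_assoc _ _ _ _).trans ?_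
    refine (Category.assoc _ _ _).trans ((congrArg (fun t => step P₀ (leOfHom h).1 ≫ t) (cokernel.π_desc _ _ _)).trans ?_)
    refine (Category.assoc _ _ _).symm.trans ?_
    exact congrArg (· ≫ _) (Sigma.hom_ext _ _ fun i => by simp))

variable {F : A} (π : (∐ P₀) ⟶ F) (w : Sigma.desc r ≫ π = 0)

include w hsupp in
lemma rel_π (l : Idx supp) : rel P₀ P₁ r supp l ≫ incl P₀ l.1.1 ≫ π = 0 := by
  rw [← Category.assoc, rel_incl P₀ P₁ r supp hsupp]
  refine Sigma.hom_ext _ _ fun k => ?_
  have := congrArg (Sigma.ι P₁ k.1 ≫ ·) w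
  simp only [Sigma.ι_desc_assoc, comp_zero] at this ⊢
  exact this

/-- The cocone of finite pieces. -/
noncomputable def cocone : diagram P₀ P₁ r supp hsupp ⟶ (Functor.const (Idx supp)).obj F where
  app l := cokernel.desc _ (incl P₀ l.1.1 ≫ π) (rel_π P₀ P₁ r supp hsupp π w l)
  naturality l l' h := coequalizer.hom_ext (by
    refine (cokernel.π_desc_assoc _ _ _ _).trans ?_
    refine (Category.assoc _ _ _).trans ((congrArg (fun t => step P₀ (leOfHom h).1 ≫ t) (cokernel.π_desc _ _ _)).trans ?_)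
    refine (Category.assoc _ _ _).symm.trans ((congrArg (· ≫ π) (step_incl P₀ (leOfHom h).1)).trans ?_)
    refine Eq.trans ?_ (congrArg (cokernel.π _ ≫ ·) (Category.comp_id _)).symm
    exact (cokernel.π_desc _ _ _).symm)

/-- The finite pieces exhaust the object. -/
theorem nonempty_isColimit (hc : IsColimit (CokernelCofork.ofπ π w)) :
    Nonempty (IsColimit (Cocone.mk F (cocone P₀ P₁ r supp hsupp π w))) := by
  classical
  haveI : Epi π := Cofork.IsColimit.epi hc
  let pt : I₀ → Idx supp := fun i => ⟨({i}, ∅), fun k h => absurd h (Finset.notMem_empty k)⟩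
  let comp : ∀ (c : Cocone (diagram P₀ P₁ r supp hsupp)) (i : I₀), P₀ i ⟶ c.pt := fun c i =>
    Sigma.ι (fun j : (pt i).1.1 => P₀ j.1) ⟨i, Finset.mem_singleton_self i⟩ ≫ cokernel.π _ ≫ c.ι.app (pt i)
  have hcomp : ∀ (c : Cocone (diagram P₀ P₁ r supp hsupp)) (l : Idx supp),
      incl P₀ l.1.1 ≫ Sigma.desc (comp c) = cokernel.π _ ≫ c.ι.app l := fun c l => by
    refine Sigma.hom_ext _ _ fun i => ?_
    rw [Sigma.ι_desc_assoc, Sigma.ι_desc]
    have hle : pt i.1 ≤ l := ⟨Finset.singleton_subset_iff.2 i.2, Finset.empty_subset _⟩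
    show Sigma.ι _ _ ≫ cokernel.π _ ≫ c.ι.app (pt i.1) = _
    rw [← c.w (homOfLE hle)]
    erw [cokernel.π_desc_assoc]
    rw [Category.assoc, Sigma.ι_desc_assoc]
  have hzero : ∀ c : Cocone (diagram P₀ P₁ r supp hsupp), Sigma.desc r ≫ Sigma.desc (comp c) = 0 := fun c => by
    refine Sigma.hom_ext _ _ fun k => ?_
    let l : Idx supp := ⟨(supp k, {k}), fun k' hk => by rw [Finset.mem_singleton.1 hk]⟩
    have h1 : r k = Sigma.ι (fun j : l.1.2 => P₁ j.1) ⟨k, Finset.mem_singleton_self k⟩ ≫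
        rel P₀ P₁ r supp l ≫ incl P₀ l.1.1 := by
      rw [rel_incl P₀ P₁ r supp hsupp, Sigma.ι_desc]
    rw [Sigma.ι_desc_assoc, h1, Category.assoc, Category.assoc, hcomp, cokernel.condition_assoc]
    simp
  refine ⟨{ desc := fun c => (CokernelCofork.IsColimit.desc' hc (Sigma.desc (comp c)) (hzero c)).1
            fac := fun c l => ?_
            uniq := fun c m hm => ?_ }⟩
  · refine coequalizer.hom_ext ?_
    erw [cokernel.π_desc_assoc]
    rw [Category.assoc]
    erw [(CokernelCofork.IsColimit.desc' hc (Sigma.desc (comp c)) (hzero c)).2]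
    exact hcomp c l
  · rw [← cancel_epi π]
    refine Eq.trans ?_ (CokernelCofork.IsColimit.desc' hc (Sigma.desc (comp c)) (hzero c)).2.symm
    refine Sigma.hom_ext _ _ fun i => ?_
    rw [Sigma.ι_desc]
    simp only [comp]
    rw [← hm (pt i)]
    erw [cokernel.π_desc_assoc]
    rw [Category.assoc, Sigma.ι_desc_assoc]

end Groth.Agent.FPColim
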